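import Groth.Prelude.Def_FrobAlg
import Mathlib

/-!
# Relative Frobenius of an étale algebra is bijective (universe polymorphic)  (helper16)

Universe-polymorphic version of the argument of `Groth.Agent.S3176` (helper15).
-/

set_option autoImplicit false
set_option linter.style.haveILetI false
universe u v w
open FrobAlg TensorProduct

namespace Groth.Agent.Lib.Helper16.RelFrob

theorem relFrob_tmul (p : ℕ) [Fact p.Prime] (A : Type u) [CommRing A] [CharP A p]
    (B : Type v) [CommRing B] [Algebra A B] [CharP B p] (b : B) (a : Twist p A) :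
    relFrob p A B (b ⊗ₜ[A] a) = b ^ p * algebraMap A B ((toTwist p A).symm a) := rfl

/-- `p`-th powers in the Frobenius twist. -/
theorem pow_eq_relFrob_tmul (p : ℕ) [Fact p.Prime] (A : Type u) [CommRing A] [CharP A p]
    (B : Type v) [CommRing B] [Algebra A B] [CharP B p] (x : BaseChange p A B) :
    x ^ p = (relFrob p A B x) ⊗ₜ[A] (1 : Twist p A) := by
  have hp : p.Prime := Fact.out
  have hp0 : ((p : ℕ) : BaseChange p A B) = 0 := by
    rw [← map_natCast (algebraMap B (BaseChange p A B)) p, CharP.cast_eq_zero B p, map_zero]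
  induction x using TensorProduct.induction_on with
  | zero => simp [hp.ne_zero]
  | tmul b a =>
    rw [Algebra.TensorProduct.tmul_pow, relFrob_tmul]
    have ha : a ^ p = ((toTwist p A).symm a) • (1 : Twist p A) := by
      rw [Algebra.smul_def, mul_one, algebraMap_twist, map_pow]
      simp
    rw [ha, ← TensorProduct.smul_tmul, Algebra.smul_def, mul_comm]
  | add x y hx hy =>
    obtain ⟨r, hr⟩ := exists_add_pow_prime_eq hp x y
    rw [hr, hp0, zero_mul, zero_mul, zero_mul, add_zero, hx, hy, map_add, TensorProduct.add_tmul]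

/-- transport of étaleness along ring isomorphisms of base and algebra -/
lemma etale_transport {R : Type u} {R' : Type u} {S : Type v} {S' : Type v}
    [CommRing R] [CommRing R'] [CommRing S] [CommRing S']
    [Algebra R S] [Algebra R' S'] (e : R' ≃+* R) (g : S ≃+* S')
    (h : ∀ r', g (algebraMap R S (e r')) = algebraMap R' S' r') [Algebra.Etale R S] :
    Algebra.Etale R' S' := by
  letI : Algebra R' R := (e : R' →+* R).toAlgebra
  letI : Algebra R S' := ((g : S →+* S').comp (algebraMap R S)).toAlgebra
  haveI : IsScalarTower R' R S' := IsScalarTower.of_algebraMap_eq (fun r' => (h r').symm)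
  haveI : Algebra.Etale R' R :=
    Algebra.Etale.of_equiv (AlgEquiv.ofRingEquiv (f := e) (fun t => rfl) : R' ≃ₐ[R'] R)
  haveI : Algebra.Etale R S' :=
    Algebra.Etale.of_equiv (AlgEquiv.ofRingEquiv (f := g) (fun t => rfl) : S ≃ₐ[R] S')
  exact Algebra.Etale.comp R' R S'

lemma core {T : Type u} {C : Type w} {B : Type v} [CommRing T] [CommRing C] [CommRing B]
    [Algebra T C] [Algebra C B]
    [Algebra T B] [IsScalarTower T C B] [Algebra.Etale T C] [Algebra.Etale T B]
    (p : ℕ) [Fact p.Prime] (hp : (p : B) = 0)
    (hpow : ∀ b : B, ∃ c : C, algebraMap C B c = b ^ p)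
    (hker : ∀ c : C, algebraMap C B c = 0 → IsNilpotent c) :
    Function.Bijective (algebraMap C B) := by
  haveI : Algebra.Etale C B := Algebra.Etale.of_restrictScalars (R := T) (A := C) (B := B)
  haveI : Module.Flat C B := inferInstance
  haveI : Algebra.IsIntegral C B := ⟨fun b => by
    obtain ⟨c, hc⟩ := hpow b
    refine ⟨Polynomial.X ^ p - Polynomial.C c,
      Polynomial.monic_X_pow_sub_C c (Fact.out : p.Prime).ne_zero, ?_⟩
    simp [hc]⟩
  have hsurjSpec : Function.Surjective (PrimeSpectrum.comap (algebraMap C B)) := by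
    intro P
    have hle : (⊥ : Ideal B).comap (algebraMap C B) ≤ P.asIdeal := by
      intro c hc
      rw [Ideal.mem_comap, Ideal.mem_bot] at hc
      obtain ⟨n, hn⟩ := hker c hc
      exact P.isPrime.mem_of_pow_mem n (hn ▸ P.asIdeal.zero_mem)
    obtain ⟨Q, -, hQ, hQP⟩ :=
      Ideal.exists_ideal_over_prime_of_isIntegral P.asIdeal (⊥ : Ideal B) hle
    exact ⟨⟨Q, hQ⟩, PrimeSpectrum.ext hQP⟩
  haveI : Module.FaithfullyFlat C B := Module.FaithfullyFlat.of_comap_surjective hsurjSpec
  have hJ : KaehlerDifferential.ideal C B = ⊥ := by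
    have hidem : IsIdempotentElem (KaehlerDifferential.ideal C B) := by
      rw [← Ideal.cotangent_subsingleton_iff]
      exact (inferInstance : Subsingleton Ω[B⁄C])
    obtain ⟨e, he, hJe⟩ :=
      (Ideal.isIdempotentElem_iff_of_fg _ (KaehlerDifferential.ideal_fg C B)).mp hidem
    have hnil : KaehlerDifferential.ideal C B ≤ nilradical (B ⊗[C] B) := by
      rw [← KaehlerDifferential.span_range_eq_ideal, Ideal.span_le]
      rintro _ ⟨s, rfl⟩
      show IsNilpotent _
      refine ⟨p, ?_⟩
      rcases subsingleton_or_nontrivial (B ⊗[C] B) with hss | hnt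
      · exact Subsingleton.elim _ _
      · have hp0 : ((p : ℕ) : B ⊗[C] B) = 0 := by
          have := congrArg (algebraMap B (B ⊗[C] B)) hp
          simpa using this
        haveI : CharP (B ⊗[C] B) p := (CharP.charP_iff_prime_eq_zero Fact.out).mpr hp0
        obtain ⟨c, hc⟩ := hpow s
        rw [sub_pow_char, Algebra.TensorProduct.tmul_pow, Algebra.TensorProduct.tmul_pow,
          one_pow, ← hc, Algebra.algebraMap_eq_smul_one, TensorProduct.tmul_smul,
          TensorProduct.smul_tmul', sub_self]
    have he_nil : IsNilpotent e := hnil (hJe ▸ Ideal.mem_span_singleton_self e)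
    have he0 : e = 0 := by
      obtain ⟨n, hn⟩ := he_nil
      rcases Nat.eq_zero_or_pos n with rfl | hn0
      · rw [pow_zero] at hn
        rw [← mul_one e, hn, mul_zero]
      · rw [← he.pow_succ_eq (n - 1), Nat.sub_add_cancel hn0, hn]
    rw [hJe, he0]
    exact Ideal.span_singleton_eq_bot.mpr rfl
  have hmul : Function.Injective (Algebra.TensorProduct.lmul' C (S := B)) := by
    rw [injective_iff_map_eq_zero]
    intro z hz
    have hz' : z ∈ KaehlerDifferential.ideal C B := hz
    rw [hJ] at hz'
    exact hz'
  have hcomp : ∀ b : B, Algebra.TensorProduct.lmul' C (S := B) (algebraMap B (B ⊗[C] B) b) = b := by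
    intro b
    simp [Algebra.TensorProduct.algebraMap_apply]
  have hbij : Function.Bijective (algebraMap B (B ⊗[C] B)) := by
    constructor
    · intro b b' hbb
      rw [← hcomp b, ← hcomp b', hbb]
    · intro z
      exact ⟨Algebra.TensorProduct.lmul' C (S := B) z, hmul (hcomp _)⟩
  exact Module.FaithfullyFlat.bijective_of_tensorProduct hbij

/-- a copy of `B` carrying only the structures we put on it -/
def BCopy (B : Type v) : Type v := B

instance (B : Type v) [CommRing B] : CommRing (BCopy B) := inferInstanceAs (CommRing B)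

theorem bijective_of_etale (p : ℕ) [Fact p.Prime] (A : Type u) [CommRing A] [CharP A p]
    (B : Type v) [CommRing B] [Algebra A B] [CharP B p] [Algebra.Etale A B] :
    Function.Bijective (relFrob p A B) := by
  letI algCB : Algebra (BaseChange p A B) (BCopy B) :=
    (relFrob p A B : BaseChange p A B →+* BCopy B).toAlgebra
  letI algTB : Algebra (Twist p A) (BCopy B) :=
    (((algebraMap A B).comp ((toTwist p A).symm : Twist p A →+* A)) :
      Twist p A →+* BCopy B).toAlgebra
  haveI : IsScalarTower (Twist p A) (BaseChange p A B) (BCopy B) :=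
    IsScalarTower.of_algebraMap_eq (fun t => by
      show algebraMap A B ((toTwist p A).symm t) = relFrob p A B ((1 : B) ⊗ₜ[A] t)
      rw [relFrob_tmul, one_pow, one_mul])
  haveI : Algebra.Etale (Twist p A) (BaseChange p A B) :=
    Algebra.Etale.of_equiv (Algebra.TensorProduct.commRight A (Twist p A) B)
  haveI : Algebra.Etale (Twist p A) (BCopy B) :=
    etale_transport (R := A) (S := B) (toTwist p A).symm
      (RingEquiv.refl B : B ≃+* BCopy B) (fun t => rfl)
  have hp : ((p : ℕ) : BCopy B) = 0 := CharP.cast_eq_zero B p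
  have hpow : ∀ b : BCopy B, ∃ c : BaseChange p A B,
      algebraMap (BaseChange p A B) (BCopy B) c = b ^ p := by
    intro b
    refine ⟨(b : B) ⊗ₜ[A] (1 : Twist p A), ?_⟩
    show relFrob p A B ((b : B) ⊗ₜ[A] (1 : Twist p A)) = _
    rw [relFrob_tmul, map_one, map_one, mul_one]
    rfl
  have hker : ∀ c : BaseChange p A B,
      algebraMap (BaseChange p A B) (BCopy B) c = 0 → IsNilpotent c := by
    intro c hc
    refine ⟨p, ?_⟩
    have hc' : relFrob p A B c = 0 := hc
    rw [pow_eq_relFrob_tmul, hc', TensorProduct.zero_tmul]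
  exact core (T := Twist p A) (C := BaseChange p A B) (B := BCopy B) p hp hpow hker

end Groth.Agent.Lib.Helper16.RelFrob
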