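import Groth.Agent.Lib.Helper16.RelFrob.Poly

/-!
# The relative Frobenius of a smooth algebra is flat  (helper16)
-/

set_option autoImplicit false
set_option linter.style.haveILetI false
set_option linter.unusedSectionVars false
universe u v w
open FrobAlg TensorProduct MvPolynomial

namespace Groth.Agent.Lib.Helper16.RelFrob

/-- universe-polymorphic version of `RingHom.Flat.ofLocalizationSpanTarget`. -/
theorem flat_of_localizationSpanTarget {R : Type u} {S : Type v} [CommRing R] [CommRing S]
    (f : R →+* S) (s : Set S) (hs : Ideal.span s = ⊤)
    (h : ∀ r : s, ((algebraMap S (Localization.Away (r : S))).comp f).Flat) : f.Flat := by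
  algebraize_only [f]
  refine Module.flat_of_isLocalized_span _ _ s hs _
    (fun r ↦ Algebra.linearMap S <| Localization.Away r.1) ?_
  dsimp only [RingHom.Flat] at h
  convert! h; ext
  apply Algebra.smul_def

section smooth

variable (p : ℕ) [Fact p.Prime] (A : Type u) [CommRing A] [CharP A p]
  (B : Type v) [CommRing B] [Algebra A B] [CharP B p]

/-- `CharP` for a nontrivial algebra over a ring of characteristic `p`. -/
theorem charP_of_nontrivial (B' : Type w) [CommRing B'] [Algebra B B'] [Nontrivial B'] :
    CharP B' p := by
  refine (CharP.charP_iff_prime_eq_zero (Fact.out : p.Prime)).mpr ?_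
  rw [← map_natCast (algebraMap B B') p, CharP.cast_eq_zero B p, map_zero]

/-- standard smooth case. -/
theorem flat_relFrob_of_isStandardSmooth [Algebra.IsStandardSmooth A B] :
    (relFrob p A B).Flat := by
  obtain ⟨ι, σ, _, _, ⟨P⟩⟩ := (inferInstance : Algebra.IsStandardSmooth A B)
  haveI : Algebra.IsStandardSmoothOfRelativeDimension P.dimension A B :=
    ⟨_, _, _, inferInstance, P, rfl⟩
  obtain ⟨g, hg⟩ :=
    Algebra.IsStandardSmoothOfRelativeDimension.exists_etale_mvPolynomial P.dimension A B
  algebraize [g.toRingHom]
  haveI : IsScalarTower A (MvPolynomial (Fin P.dimension) A) B :=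
    IsScalarTower.of_algebraMap_eq (fun a => (g.commutes a).symm)
  haveI hch : CharP (MvPolynomial (Fin P.dimension) A) p := inferInstance
  have hbij : Function.Bijective (relFrob p (MvPolynomial (Fin P.dimension) A) B) :=
    @bijective_of_etale p _ (MvPolynomial (Fin P.dimension) A) _ hch B _ _ _ _
  exact flat_relFrob_of_bijective p A (MvPolynomial (Fin P.dimension) A) B hbij
    (flat_relFrob_mvPolynomial p A (Fin P.dimension))

theorem flat_relFrob_of_smooth [Algebra.Smooth A B] : (relFrob p A B).Flat := by
  obtain ⟨s, hs, h⟩ := Algebra.Smooth.exists_span_eq_top_isStandardSmooth A B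
  refine flat_of_localizationSpanTarget _ s hs ?_
  rintro ⟨r, hr⟩
  haveI := h r hr
  rcases subsingleton_or_nontrivial (Localization.Away r) with hss | hnt
  · -- zero ring
    letI := ((algebraMap B (Localization.Away r)).comp (relFrob p A B)).toAlgebra
    show Module.Flat (BaseChange p A B) (Localization.Away r)
    infer_instance
  · haveI : CharP (Localization.Away r) p := charP_of_nontrivial p B (Localization.Away r)
    have hcomp : (algebraMap B (Localization.Away r)).comp (relFrob p A B) =
        (relFrob p A (Localization.Away r)).comp
          (twistMap p A B (Localization.Away r)).toRingHom := by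
      refine RingHom.ext fun x => ?_
      exact (relFrob_twistMap p A B (Localization.Away r) x).symm
    rw [hcomp]
    refine RingHom.Flat.comp ?_ (flat_relFrob_of_isStandardSmooth p A (Localization.Away r))
    have h1 : (IsScalarTower.toAlgHom A B (Localization.Away r)).toRingHom.Flat :=
      RingHom.flat_algebraMap_iff.mpr (IsLocalization.flat _ (Submonoid.powers r))
    exact RingHom.Flat.tensorProductMap h1 (RingHom.Flat.id _)

end smooth

end Groth.Agent.Lib.Helper16.RelFrob
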