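import Groth.Agent.Lib.Helper16.RelFrob.Pushout

/-!
# `R[X₁..Xₙ]` is free of rank `pⁿ` over itself through `expand p`  (helper16)
-/

set_option autoImplicit false
set_option linter.style.haveILetI false
set_option linter.unusedSectionVars false
universe u v w
open FrobAlg TensorProduct MvPolynomial

namespace Groth.Agent.Lib.Helper16.RelFrob

section expand

variable {σ : Type w} [Fintype σ] [DecidableEq σ] (R : Type u) [CommRing R] (p : ℕ) [NeZero p]

/-- a function `σ → Fin p` as a finitely supported exponent vector. -/
noncomputable def expo (e : σ → Fin p) : σ →₀ ℕ :=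
  Finsupp.equivFunOnFinite.symm (fun i => ((e i : Fin p) : ℕ))

@[simp] theorem expo_apply (e : σ → Fin p) (i : σ) : expo p e i = (e i : ℕ) := rfl

/-- the algebra structure on a copy of `R[X]` over `R[X]` through `expand p`. -/
noncomputable abbrev algExpand : Algebra (MvPolynomial σ R) (BCopy (MvPolynomial σ R)) :=
  ((toCopy (MvPolynomial σ R) : MvPolynomial σ R →+* BCopy (MvPolynomial σ R)).comp
    (expand p (σ := σ) (R := R)).toRingHom).toAlgebra

/-- the monomials `X^e`, `e i < p`. -/
noncomputable def bfam (e : σ → Fin p) : BCopy (MvPolynomial σ R) :=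
  toCopy (MvPolynomial σ R) (monomial (expo p e) 1)

theorem coeff_sum_expand (g : (σ → Fin p) → MvPolynomial σ R) (m : σ →₀ ℕ) (e₀ : σ → Fin p) :
    coeff (p • m + expo p e₀) (∑ e, expand p (g e) * monomial (expo p e) 1) = coeff m (g e₀) := by
  have hp : p ≠ 0 := NeZero.ne p
  rw [coeff_sum, Finset.sum_eq_single e₀]
  · rw [coeff_mul_monomial, mul_one, coeff_expand_smul p hp]
  · intro e _ hne
    rw [coeff_mul_monomial']
    split_ifs with hle
    · obtain ⟨i, hi⟩ : ∃ i, e i ≠ e₀ i := by
        by_contra hcon
        push Not at hcon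
        exact hne (funext hcon)
      rw [mul_one]
      apply coeff_expand_of_not_dvd (i := i)
      intro hdvd
      apply hi
      have hlei : expo p e i ≤ (p • m + expo p e₀) i := hle i
      simp only [Finsupp.coe_tsub, Finsupp.coe_add, Finsupp.coe_smul, Pi.sub_apply, Pi.add_apply,
        Pi.smul_apply, expo_apply, smul_eq_mul] at hdvd hlei
      obtain ⟨c, hc⟩ := hdvd
      have h1 : p * m i + (e₀ i : ℕ) = p * c + (e i : ℕ) := by omega
      have h2 : (p * m i + (e₀ i : ℕ)) % p = (e₀ i : ℕ) := by
        rw [Nat.mul_add_mod]; exact Nat.mod_eq_of_lt (e₀ i).2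
      have h3 : (p * c + (e i : ℕ)) % p = (e i : ℕ) := by
        rw [Nat.mul_add_mod]; exact Nat.mod_eq_of_lt (e i).2
      apply Fin.ext
      rw [← h3, ← h2, h1]
    · rfl
  · intro h
    exact absurd (Finset.mem_univ e₀) h

theorem linearIndependent_bfam :
    letI := algExpand (σ := σ) R p
    LinearIndependent (MvPolynomial σ R) (bfam (σ := σ) R p) := by
  letI := algExpand (σ := σ) R p
  rw [Fintype.linearIndependent_iff]
  intro g hg e₀
  ext m
  rw [← coeff_sum_expand R p g m e₀, coeff_zero]
  have : (∑ e, g e • bfam R p e : BCopy (MvPolynomial σ R)) =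
      toCopy (MvPolynomial σ R) (∑ e, expand p (g e) * monomial (expo p e) 1) := by
    rw [map_sum]
    rfl
  rw [this] at hg
  have h0 : (∑ e, expand p (g e) * monomial (expo p e) 1 : MvPolynomial σ R) = 0 := by
    have := congrArg (toCopy (MvPolynomial σ R)).symm hg
    rwa [RingEquiv.symm_apply_apply, map_zero] at this
  rw [h0, coeff_zero]

theorem span_bfam :
    letI := algExpand (σ := σ) R p
    ⊤ ≤ Submodule.span (MvPolynomial σ R) (Set.range (bfam (σ := σ) R p)) := by
  letI := algExpand (σ := σ) R p
  have hp : 0 < p := Nat.pos_of_ne_zero (NeZero.ne p)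
  have key : ∀ f : MvPolynomial σ R, toCopy (MvPolynomial σ R) f ∈
      Submodule.span (MvPolynomial σ R) (Set.range (bfam (σ := σ) R p)) := by
    intro f
    induction f using MvPolynomial.induction_on' with
    | monomial k r =>
      let d : σ →₀ ℕ := k.mapRange (· / p) (Nat.zero_div p)
      let e : σ → Fin p := fun i => ⟨k i % p, Nat.mod_lt _ hp⟩
      have hk : p • d + expo p e = k := by
        ext i
        simp only [Finsupp.coe_add, Finsupp.coe_smul, Pi.add_apply, Pi.smul_apply, smul_eq_mul,
          expo_apply, d, e, Finsupp.mapRange_apply]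
        exact Nat.div_add_mod (k i) p
      have h1 : (monomial d r) • bfam R p e =
          toCopy (MvPolynomial σ R) (expand p (monomial d r) * monomial (expo p e) 1) := rfl
      have h2 : (expand p (monomial d r) * monomial (expo p e) 1 : MvPolynomial σ R) =
          monomial k r := by
        rw [expand_monomial, monomial_mul, mul_one, hk]
      rw [← h2, ← h1]
      exact Submodule.smul_mem _ _ (Submodule.subset_span ⟨e, rfl⟩)
    | add f g hf hg =>
      rw [map_add]
      exact Submodule.add_mem _ hf hg
  intro x _
  obtain ⟨f, rfl⟩ := (toCopy (MvPolynomial σ R)).surjective x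
  exact key f

/-- the basis `X^e` of `R[X]` over `R[X]` (through `expand p`). -/
noncomputable def expandBasis :
    letI := algExpand (σ := σ) R p
    Module.Basis (σ → Fin p) (MvPolynomial σ R) (BCopy (MvPolynomial σ R)) :=
  letI := algExpand (σ := σ) R p
  Module.Basis.mk (linearIndependent_bfam R p) (span_bfam R p)

end expand

end Groth.Agent.Lib.Helper16.RelFrob
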