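import Groth.Agent.Lib.Helper16.RelFrob.Expand

/-!
# The relative Frobenius of a polynomial ring: free of rank `pⁿ`  (helper16)
-/

set_option autoImplicit false
set_option linter.style.haveILetI false
set_option linter.unusedSectionVars false
universe u v w
open FrobAlg TensorProduct MvPolynomial

namespace Groth.Agent.Lib.Helper16.RelFrob

section poly

variable (p : ℕ) [Fact p.Prime] (A : Type u) [CommRing A] [CharP A p]
  (σ : Type w) [Fintype σ] [DecidableEq σ]

instance : NeZero p := ⟨(Fact.out : p.Prime).ne_zero⟩

/-- the ring isomorphism `A[X] ⊗_A A^F ≃ A[X]`, `q ⊗ a ↦ a • q^{(Frob)}`. -/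
noncomputable def thetaEquiv : BaseChange p A (MvPolynomial σ A) ≃+* MvPolynomial σ A :=
  ((Algebra.TensorProduct.comm A (MvPolynomial σ A) (Twist p A)).toRingEquiv.trans
    (MvPolynomial.algebraTensorAlgEquiv A (Twist p A)).toRingEquiv).trans
    (MvPolynomial.mapEquiv σ (toTwist p A).symm)

theorem thetaEquiv_tmul (q : MvPolynomial σ A) (a : Twist p A) :
    thetaEquiv p A σ (q ⊗ₜ[A] a) =
      C ((toTwist p A).symm a) * MvPolynomial.map (frobenius A p) q := by
  simp only [thetaEquiv, RingEquiv.trans_apply, AlgEquiv.coe_ringEquiv,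
    Algebra.TensorProduct.comm_tmul, MvPolynomial.algebraTensorAlgEquiv_tmul,
    MvPolynomial.mapEquiv_apply]
  rw [MvPolynomial.smul_eq_C_mul, map_mul, MvPolynomial.map_C, MvPolynomial.map_map]
  rfl

theorem expand_thetaEquiv (x : BaseChange p A (MvPolynomial σ A)) :
    expand p (thetaEquiv p A σ x) = relFrob p A (MvPolynomial σ A) x := by
  induction x using TensorProduct.induction_on with
  | zero => simp
  | tmul q a =>
    rw [thetaEquiv_tmul, map_mul, expand_C, ← MvPolynomial.map_expand,
      MvPolynomial.map_frobenius_expand, relFrob_tmul, mul_comm]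
    rfl
  | add x y hx hy => rw [map_add, map_add, map_add, hx, hy]

/-- the basis `X^e` (`e i < p`) of `A[X]` over its Frobenius twist. -/
noncomputable def polyBasis :
    letI := algCopy p A (MvPolynomial σ A)
    Module.Basis (σ → Fin p) (BaseChange p A (MvPolynomial σ A)) (BCopy (MvPolynomial σ A)) :=
  letI := algCopy p A (MvPolynomial σ A)
  letI := algExpand (σ := σ) A p
  (expandBasis (σ := σ) A p).mapCoeffs (thetaEquiv p A σ).symm (fun c x => by
    show toCopy _ (relFrob p A (MvPolynomial σ A) ((thetaEquiv p A σ).symm c)) * x =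
      toCopy _ (expand p c) * x
    rw [← expand_thetaEquiv, RingEquiv.apply_symm_apply])

theorem flat_relFrob_mvPolynomial : (relFrob p A (MvPolynomial σ A)).Flat := by
  letI := algCopy p A (MvPolynomial σ A)
  haveI : Module.Free (BaseChange p A (MvPolynomial σ A)) (BCopy (MvPolynomial σ A)) :=
    Module.Free.of_basis (polyBasis p A σ)
  have : Module.Flat (BaseChange p A (MvPolynomial σ A)) (BCopy (MvPolynomial σ A)) :=
    inferInstance
  exact this

end poly

end Groth.Agent.Lib.Helper16.RelFrob
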