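import Groth.Agent.Lib.Helper16.RelFrob.Etale

/-!
# The relative Frobenius of `B/A` is a base change of that of `P/A` when `relFrob P B` is bijective
(helper16)

For `A → P → B` in characteristic `p` with `B ⊗_{P,Frob} P → B` bijective (e.g. `P → B` étale),
the square
```
  P ⊗_A A^Frob  ──relFrob──▶  P
       │                      │
       ▼                      ▼
  B ⊗_A A^Frob  ──relFrob──▶  B
```
is a pushout: `(B ⊗_A A^Frob) ⊗_{P ⊗_A A^Frob} P ≃ B`.
-/

set_option autoImplicit false
set_option linter.style.haveILetI false
set_option linter.unusedSectionVars false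
universe u v w
open FrobAlg TensorProduct

namespace Groth.Agent.Lib.Helper16.RelFrob

variable (p : ℕ) [Fact p.Prime] (A : Type u) [CommRing A] [CharP A p]
  (P : Type w) [CommRing P] [Algebra A P] [CharP P p]
  (B : Type v) [CommRing B] [Algebra A B] [CharP B p] [Algebra P B] [IsScalarTower A P B]

/-- the map on Frobenius twists induced by `P → B`. -/
noncomputable def twistMap : BaseChange p A P →ₐ[A] BaseChange p A B :=
  Algebra.TensorProduct.map (IsScalarTower.toAlgHom A P B) (AlgHom.id A (Twist p A))

@[simp] theorem twistMap_tmul (q : P) (a : Twist p A) :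
    twistMap p A P B (q ⊗ₜ[A] a) = (algebraMap P B q) ⊗ₜ[A] a := by
  simp [twistMap]

theorem relFrob_twistMap (x : BaseChange p A P) :
    relFrob p A B (twistMap p A P B x) = algebraMap P B (relFrob p A P x) := by
  induction x using TensorProduct.induction_on with
  | zero => simp
  | tmul q a =>
    rw [twistMap_tmul, relFrob_tmul, relFrob_tmul, map_mul, map_pow,
      ← IsScalarTower.algebraMap_apply A P B]
  | add x y hx hy => rw [map_add, map_add, map_add, map_add, hx, hy]

section pushout

/-- the identity ring isomorphism to the copy. -/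
def toCopy (B : Type v) [CommRing B] : B ≃+* BCopy B := RingEquiv.refl B

/-- The comparison map `(B ⊗_A A^F) ⊗_{P ⊗_A A^F} P → B` is bijective when `relFrob P B` is. The
targets of the relative Frobenius maps are the copies `BCopy P`, `BCopy B` (to avoid instance
diamonds); all algebra structures are explicit hypotheses. -/
theorem exists_linearEquiv_of_bijective
    [Algebra (BaseChange p A P) (BCopy P)] [Algebra (BaseChange p A P) (BaseChange p A B)]
    [Algebra (BaseChange p A B) (BCopy B)] [Algebra (BaseChange p A P) (BCopy B)]
    [Algebra (BCopy P) (BCopy B)]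
    [IsScalarTower (BaseChange p A P) (BaseChange p A B) (BCopy B)]
    [IsScalarTower (BaseChange p A P) (BCopy P) (BCopy B)]
    (h0 : ∀ q : BCopy P, algebraMap (BCopy P) (BCopy B) q =
      toCopy B (algebraMap P B ((toCopy P).symm q)))
    (h1 : ∀ x : BaseChange p A P, algebraMap (BaseChange p A P) (BCopy P) x =
      toCopy P (relFrob p A P x))
    (h2 : ∀ x : BaseChange p A P, algebraMap (BaseChange p A P) (BaseChange p A B) x =
      twistMap p A P B x)
    (h3 : ∀ x : BaseChange p A B, algebraMap (BaseChange p A B) (BCopy B) x =
      toCopy B (relFrob p A B x))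
    (hbij : Function.Bijective (relFrob p P B)) :
    Nonempty (((BaseChange p A B) ⊗[BaseChange p A P] (BCopy P)) ≃ₗ[BaseChange p A B] (BCopy B)) := by
  -- the comparison map
  let μ : (BaseChange p A B) ⊗[BaseChange p A P] (BCopy P) →ₐ[BaseChange p A B] (BCopy B) :=
    Algebra.TensorProduct.lift (Algebra.ofId (BaseChange p A B) (BCopy B))
      (IsScalarTower.toAlgHom (BaseChange p A P) (BCopy P) (BCopy B)) (fun _ _ => Commute.all _ _)
  have hμ : ∀ (s : BaseChange p A B) (q : BCopy P),
      μ (s ⊗ₜ[BaseChange p A P] q) =
        toCopy B (relFrob p A B s * algebraMap P B ((toCopy P).symm q)) := by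
    intro s q
    simp only [μ, Algebra.TensorProduct.lift_tmul, Algebra.ofId_apply, h3,
      IsScalarTower.coe_toAlgHom', h0, map_mul]
  -- the map from `B ⊗_P P^F`
  have hsm : ∀ (r : P) (b : B) (q : P),
      (((algebraMap P B r * b) ⊗ₜ[A] (1 : Twist p A) : BaseChange p A B)
          ⊗ₜ[BaseChange p A P] (toCopy P q)) =
        ((b ⊗ₜ[A] (1 : Twist p A) : BaseChange p A B)
          ⊗ₜ[BaseChange p A P] (toCopy P (r ^ p * q))) := by
    intro r b q
    have e1 : ((algebraMap P B r * b) ⊗ₜ[A] (1 : Twist p A) : BaseChange p A B) =
        ((r ⊗ₜ[A] (1 : Twist p A) : BaseChange p A P)) • (b ⊗ₜ[A] (1 : Twist p A)) := by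
      rw [Algebra.smul_def, h2, twistMap_tmul, Algebra.TensorProduct.tmul_mul_tmul, mul_one]
    have e2 : toCopy P (r ^ p * q : P) =
        ((r ⊗ₜ[A] (1 : Twist p A) : BaseChange p A P)) • (toCopy P q) := by
      rw [Algebra.smul_def, h1, relFrob_tmul, map_one, map_one, mul_one, map_mul]
    rw [e1, e2, TensorProduct.smul_tmul]
  let ν : B ⊗[P] Twist p P →+ (BaseChange p A B) ⊗[BaseChange p A P] (BCopy P) :=
    TensorProduct.liftAddHom
      { toFun := fun b =>
          { toFun := fun q => ((b ⊗ₜ[A] (1 : Twist p A) : BaseChange p A B)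
              ⊗ₜ[BaseChange p A P] (toCopy P ((toTwist p P).symm q)))
            map_zero' := by rw [map_zero, map_zero, TensorProduct.tmul_zero]
            map_add' := fun q q' => by rw [map_add, map_add, TensorProduct.tmul_add] }
        map_zero' := by
          ext q
          simp only [AddMonoidHom.coe_mk, ZeroHom.coe_mk, AddMonoidHom.zero_apply,
            TensorProduct.zero_tmul]
        map_add' := fun b b' => by
          ext q
          simp only [AddMonoidHom.coe_mk, ZeroHom.coe_mk, AddMonoidHom.add_apply,
            TensorProduct.add_tmul] }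
      (by
        intro r b q
        simp only [AddMonoidHom.coe_mk, ZeroHom.coe_mk]
        rw [Algebra.smul_def, hsm]
        congr 1)
  have hν : ∀ (b : B) (q : Twist p P), ν (b ⊗ₜ[P] q) =
      ((b ⊗ₜ[A] (1 : Twist p A) : BaseChange p A B)
        ⊗ₜ[BaseChange p A P] (toCopy P ((toTwist p P).symm q))) := fun b q => rfl
  have hμν : ∀ w : B ⊗[P] Twist p P, μ (ν w) = toCopy B (relFrob p P B w) := by
    intro w
    induction w using TensorProduct.induction_on with
    | zero => simp
    | tmul b q =>
      rw [hν, hμ, relFrob_tmul, relFrob_tmul, map_one, map_one, mul_one,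
        RingEquiv.symm_apply_apply]
    | add x y hx hy => rw [map_add, map_add, map_add, map_add, hx, hy]
  have hνsurj : Function.Surjective ν := by
    intro z
    induction z using TensorProduct.induction_on with
    | zero => exact ⟨0, map_zero _⟩
    | tmul s q =>
      induction s using TensorProduct.induction_on with
      | zero => exact ⟨0, by rw [map_zero, TensorProduct.zero_tmul]⟩
      | tmul b a =>
        refine ⟨b ⊗ₜ[P] (toTwist p P (algebraMap A P ((toTwist p A).symm a) *
          (toCopy P).symm q)), ?_⟩
        rw [hν, RingEquiv.symm_apply_apply]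
        have e1 : (b ⊗ₜ[A] a : BaseChange p A B) =
            ((1 : P) ⊗ₜ[A] a : BaseChange p A P) • (b ⊗ₜ[A] (1 : Twist p A)) := by
          rw [Algebra.smul_def, h2, twistMap_tmul, Algebra.TensorProduct.tmul_mul_tmul, map_one,
            one_mul, mul_one]
        have e2 : toCopy P (algebraMap A P ((toTwist p A).symm a) * (toCopy P).symm q : P) =
            ((1 : P) ⊗ₜ[A] a : BaseChange p A P) • q := by
          rw [Algebra.smul_def, h1, relFrob_tmul, one_pow, one_mul, map_mul,
            RingEquiv.apply_symm_apply]
        rw [e1, e2, TensorProduct.smul_tmul]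
      | add s s' hs hs' =>
        obtain ⟨w, hw⟩ := hs
        obtain ⟨w', hw'⟩ := hs'
        exact ⟨w + w', by rw [map_add, hw, hw', TensorProduct.add_tmul]⟩
    | add z z' hz hz' =>
      obtain ⟨w, hw⟩ := hz
      obtain ⟨w', hw'⟩ := hz'
      exact ⟨w + w', by rw [map_add, hw, hw']⟩
  have hμbij : Function.Bijective μ := by
    constructor
    · rw [injective_iff_map_eq_zero]
      intro z hz
      obtain ⟨w, rfl⟩ := hνsurj z
      rw [hμν] at hz
      have hw0 : relFrob p P B w = 0 := by
        have := congrArg (toCopy B).symm hz
        rwa [RingEquiv.symm_apply_apply, map_zero] at this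
      have : w = 0 := hbij.1 (by rw [hw0, map_zero])
      rw [this, map_zero]
    · intro b
      obtain ⟨w, hw⟩ := hbij.2 ((toCopy B).symm b)
      exact ⟨ν w, by rw [hμν, hw, RingEquiv.apply_symm_apply]⟩
  exact ⟨(AlgEquiv.ofBijective μ hμbij).toLinearEquiv⟩

end pushout

section transfer

/-- The module structures used in the transfer statements: `B` (as `BCopy B`) over its Frobenius
twist through the relative Frobenius. -/
noncomputable abbrev algCopy : Algebra (BaseChange p A B) (BCopy B) :=
  ((toCopy B : B →+* BCopy B).comp (relFrob p A B)).toAlgebra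

/-- **Base change statement.** If `relFrob P B` is bijective then `B` (over its twist relative to
`A`) is the base change of `P` (over its twist relative to `A`). -/
theorem exists_baseChange_linearEquiv (hbij : Function.Bijective (relFrob p P B)) :
    letI i1 : Algebra (BaseChange p A P) (BCopy P) := algCopy p A P
    letI i2 : Algebra (BaseChange p A P) (BaseChange p A B) := (twistMap p A P B).toRingHom.toAlgebra
    letI i3 : Algebra (BaseChange p A B) (BCopy B) := algCopy p A B
    Nonempty (((BaseChange p A B) ⊗[BaseChange p A P] (BCopy P)) ≃ₗ[BaseChange p A B] (BCopy B)) := by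
  letI i1 : Algebra (BaseChange p A P) (BCopy P) := algCopy p A P
  letI i2 : Algebra (BaseChange p A P) (BaseChange p A B) := (twistMap p A P B).toRingHom.toAlgebra
  letI i3 : Algebra (BaseChange p A B) (BCopy B) := algCopy p A B
  letI i4 : Algebra (BaseChange p A P) (BCopy B) :=
    ((algebraMap (BaseChange p A B) (BCopy B)).comp
      (algebraMap (BaseChange p A P) (BaseChange p A B))).toAlgebra
  letI i5 : Algebra (BCopy P) (BCopy B) :=
    (((toCopy B : B →+* BCopy B).comp (algebraMap P B)).comp
      ((toCopy P).symm : BCopy P →+* P)).toAlgebra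
  haveI t1 : IsScalarTower (BaseChange p A P) (BaseChange p A B) (BCopy B) :=
    IsScalarTower.of_algebraMap_eq (fun x => rfl)
  haveI t2 : IsScalarTower (BaseChange p A P) (BCopy P) (BCopy B) :=
    IsScalarTower.of_algebraMap_eq (fun x => by
      show toCopy B (relFrob p A B (twistMap p A P B x)) =
        toCopy B (algebraMap P B ((toCopy P).symm (toCopy P (relFrob p A P x))))
      rw [relFrob_twistMap, RingEquiv.symm_apply_apply])
  exact exists_linearEquiv_of_bijective p A P B (fun q => rfl) (fun x => rfl) (fun x => rfl)
    (fun x => rfl) hbij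

/-- Flatness of the relative Frobenius passes from `P/A` to `B/A` when `relFrob P B` is
bijective (e.g. `P → B` étale). -/
theorem flat_relFrob_of_bijective (hbij : Function.Bijective (relFrob p P B))
    (hflat : (relFrob p A P).Flat) : (relFrob p A B).Flat := by
  letI i1 : Algebra (BaseChange p A P) (BCopy P) := algCopy p A P
  letI i2 : Algebra (BaseChange p A P) (BaseChange p A B) := (twistMap p A P B).toRingHom.toAlgebra
  letI i3 : Algebra (BaseChange p A B) (BCopy B) := algCopy p A B
  obtain ⟨e⟩ := exists_baseChange_linearEquiv p A P B hbij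
  haveI : Module.Flat (BaseChange p A P) (BCopy P) := hflat
  have h : Module.Flat (BaseChange p A B) (BCopy B) := Module.Flat.of_linearEquiv e.symm
  exact h

end transfer

end Groth.Agent.Lib.Helper16.RelFrob
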