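import Groth.Agent.Lib.Helper16.RelFrob.Smooth

/-!
# The relative Frobenius of a smooth algebra of relative dimension `r` is finite locally free of
rank `p^r`  (helper16)
-/

set_option autoImplicit false
set_option linter.style.haveILetI false
set_option linter.unusedSectionVars false
universe u v w
open FrobAlg TensorProduct MvPolynomial

namespace Groth.Agent.Lib.Helper16.RelFrob

section finite

variable (p : ℕ) [Fact p.Prime] (A : Type u) [CommRing A] [CharP A p]
  (B : Type v) [CommRing B] [Algebra A B] [CharP B p]

theorem algCopy_algebraMap (x : BaseChange p A B) :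
    (algCopy p A B).algebraMap x = toCopy B (relFrob p A B x) := rfl

theorem finite_relFrob [Algebra.FiniteType A B] :
    letI := algCopy p A B
    Module.Finite (BaseChange p A B) (BCopy B) := by
  letI := algCopy p A B
  obtain ⟨t, ht⟩ := (Algebra.FiniteType.out : (⊤ : Subalgebra A B).FG)
  have hadj : Algebra.adjoin (BaseChange p A B) ((toCopy B) '' (t : Set B)) = ⊤ := by
    rw [eq_top_iff]
    rintro x -
    obtain ⟨b, rfl⟩ := (toCopy B).surjective x
    have hb : b ∈ Algebra.adjoin A (t : Set B) := by rw [ht]; trivial
    induction hb using Algebra.adjoin_induction with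
    | mem b hb => exact Algebra.subset_adjoin ⟨b, hb, rfl⟩
    | algebraMap a =>
      have : toCopy B (algebraMap A B a) =
          algebraMap (BaseChange p A B) (BCopy B) ((1 : B) ⊗ₜ[A] (toTwist p A a)) := by
        show _ = toCopy B (relFrob p A B ((1 : B) ⊗ₜ[A] (toTwist p A a)))
        rw [relFrob_tmul, one_pow, one_mul, RingEquiv.symm_apply_apply]
      rw [this]
      exact Subalgebra.algebraMap_mem _ _
    | add x y _ _ hx hy => rw [map_add]; exact Subalgebra.add_mem _ hx hy
    | mul x y _ _ hx hy => rw [map_mul]; exact Subalgebra.mul_mem _ hx hy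
  have hint : ∀ x ∈ (toCopy B) '' (t : Set B), IsIntegral (BaseChange p A B) x := by
    rintro _ ⟨b, _, rfl⟩
    refine ⟨Polynomial.X ^ p - Polynomial.C (b ⊗ₜ[A] (1 : Twist p A)),
      Polynomial.monic_X_pow_sub_C _ (Fact.out : p.Prime).ne_zero, ?_⟩
    rw [Polynomial.eval₂_sub, Polynomial.eval₂_pow, Polynomial.eval₂_X, Polynomial.eval₂_C]
    show toCopy B b ^ p - toCopy B (relFrob p A B (b ⊗ₜ[A] (1 : Twist p A))) = 0
    rw [relFrob_tmul, map_one, map_one, mul_one, map_pow, sub_self]
  have hfg := fg_adjoin_of_finite ((t.finite_toSet).image (toCopy B)) hint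
  rw [hadj, Algebra.top_toSubmodule] at hfg
  exact ⟨hfg⟩

theorem finitePresentation_relFrob (B : Type u) [CommRing B] [Algebra A B] [CharP B p]
    [Algebra.FinitePresentation A B] :
    letI := algCopy p A B
    Algebra.FinitePresentation (BaseChange p A B) (BCopy B) := by
  letI := algCopy p A B
  letI iT : Algebra (Twist p A) (BCopy B) :=
    (((toCopy B : B →+* BCopy B).comp (algebraMap A B)).comp
      ((toTwist p A).symm : Twist p A →+* A)).toAlgebra
  haveI : IsScalarTower (Twist p A) (BaseChange p A B) (BCopy B) :=
    IsScalarTower.of_algebraMap_eq (fun x => by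
      show toCopy B (algebraMap A B ((toTwist p A).symm x)) =
        toCopy B (relFrob p A B ((1 : B) ⊗ₜ[A] x))
      rw [relFrob_tmul, one_pow, one_mul])
  haveI : Algebra.FinitePresentation (Twist p A) (BCopy B) := by
    rw [← RingHom.finitePresentation_algebraMap]
    have h1 : (algebraMap A B).FinitePresentation :=
      RingHom.finitePresentation_algebraMap.mpr inferInstance
    have h2 := RingHom.finitePresentation_respectsIso.1 (algebraMap A B) (toCopy B) h1
    exact RingHom.finitePresentation_respectsIso.2 _ (toTwist p A).symm h2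
  haveI : Algebra.FiniteType (Twist p A) (BaseChange p A B) :=
    Algebra.FiniteType.equiv (inferInstance : Algebra.FiniteType (Twist p A) ((Twist p A) ⊗[A] B))
      (Algebra.TensorProduct.commRight A (Twist p A) B)
  exact Algebra.FinitePresentation.of_restrict_scalars_finitePresentation (Twist p A)
    (BaseChange p A B) (BCopy B)

end finite

section projective

variable (p : ℕ) [Fact p.Prime] (A : Type u) [CommRing A] [CharP A p]
  (B : Type u) [CommRing B] [Algebra A B] [CharP B p] [Algebra.Smooth A B]

theorem flat_copy_of_smooth :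
    letI := algCopy p A B
    Module.Flat (BaseChange p A B) (BCopy B) :=
  flat_relFrob_of_smooth p A B

theorem projective_relFrob :
    letI := algCopy p A B
    Module.Projective (BaseChange p A B) (BCopy B) := by
  letI := algCopy p A B
  haveI := finite_relFrob p A B
  haveI := finitePresentation_relFrob p A B
  haveI : Module.FinitePresentation (BaseChange p A B) (BCopy B) :=
    Module.FinitePresentation.of_finite_of_finitePresentation _ _
  haveI := flat_copy_of_smooth p A B
  exact Module.Flat.projective_of_finitePresentation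

end projective

section rank

variable (p : ℕ) [Fact p.Prime] (A : Type u) [CommRing A] [CharP A p]
  (B : Type u) [CommRing B] [Algebra A B] [CharP B p] [Algebra.Smooth A B]

/-- every prime of the Frobenius twist is the contraction of a prime of `B`. -/
theorem exists_prime_comap_relFrob (𝔮 : PrimeSpectrum (BaseChange p A B)) :
    ∃ 𝔓 : PrimeSpectrum B, 𝔓.asIdeal.comap (relFrob p A B) = 𝔮.asIdeal := by
  letI := algCopy p A B
  haveI : Algebra.IsIntegral (BaseChange p A B) (BCopy B) := ⟨fun x => by
    obtain ⟨b, rfl⟩ := (toCopy B).surjective x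
    refine ⟨Polynomial.X ^ p - Polynomial.C (b ⊗ₜ[A] (1 : Twist p A)),
      Polynomial.monic_X_pow_sub_C _ (Fact.out : p.Prime).ne_zero, ?_⟩
    rw [Polynomial.eval₂_sub, Polynomial.eval₂_pow, Polynomial.eval₂_X, Polynomial.eval₂_C]
    show toCopy B b ^ p - toCopy B (relFrob p A B (b ⊗ₜ[A] (1 : Twist p A))) = 0
    rw [relFrob_tmul, map_one, map_one, mul_one, map_pow, sub_self]⟩
  have hle : (⊥ : Ideal (BCopy B)).comap (algebraMap (BaseChange p A B) (BCopy B)) ≤ 𝔮.asIdeal := by
    intro c hc
    rw [Ideal.mem_comap, Ideal.mem_bot] at hc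
    have hc' : relFrob p A B c = 0 := hc
    apply 𝔮.isPrime.mem_of_pow_mem p
    rw [pow_eq_relFrob_tmul, hc', TensorProduct.zero_tmul]
    exact 𝔮.asIdeal.zero_mem
  obtain ⟨Q, -, hQ, hQP⟩ :=
    Ideal.exists_ideal_over_prime_of_isIntegral 𝔮.asIdeal (⊥ : Ideal (BCopy B)) hle
  refine ⟨⟨Q.comap (toCopy B : B →+* BCopy B), Ideal.comap_isPrime _ _⟩, ?_⟩
  rw [← hQP]
  rfl

theorem rank_relFrob (r : ℕ)
    (hr : ∀ q : PrimeSpectrum B, Module.rankAtStalk (R := B) (Ω[B⁄A]) q = r)
    (𝔮 : PrimeSpectrum (BaseChange p A B)) :
    letI := algCopy p A B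
    Module.rankAtStalk (R := BaseChange p A B) (BCopy B) 𝔮 = p ^ r := by
  letI iB := algCopy p A B
  haveI := finite_relFrob p A B
  haveI := flat_copy_of_smooth p A B
  obtain ⟨𝔓, h𝔓⟩ := exists_prime_comap_relFrob p A B 𝔮
  obtain ⟨s, hs, h⟩ := Algebra.Smooth.exists_span_eq_top_isStandardSmooth A B
  obtain ⟨g, hgs, hg⟩ : ∃ g ∈ s, g ∉ 𝔓.asIdeal := by
    by_contra hcon
    push Not at hcon
    have : Ideal.span s ≤ 𝔓.asIdeal := Ideal.span_le.mpr hcon
    rw [hs] at this
    exact 𝔓.isPrime.ne_top (top_le_iff.mp this)
  haveI := h g hgs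
  -- the prime of the localization
  have hdisj : Disjoint ((Submonoid.powers g : Submonoid B) : Set B) (𝔓.asIdeal : Set B) :=
    (Ideal.disjoint_powers_iff_notMem g 𝔓.isPrime.isRadical).mpr hg
  have hprime' : (𝔓.asIdeal.map (algebraMap B (Localization.Away g))).IsPrime :=
    IsLocalization.isPrime_of_isPrime_disjoint (Submonoid.powers g) _ _ 𝔓.isPrime hdisj
  have hcomap' : (𝔓.asIdeal.map (algebraMap B (Localization.Away g))).comap
      (algebraMap B (Localization.Away g)) = 𝔓.asIdeal :=
    IsLocalization.under_map_of_isPrime_disjoint (Submonoid.powers g) _ 𝔓.isPrime hdisj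
  haveI : Nontrivial (Localization.Away g) :=
    nontrivial_of_ne (0 : Localization.Away g) 1 (fun h01 =>
      hprime'.ne_top ((Ideal.eq_top_iff_one _).mpr (h01 ▸ Ideal.zero_mem _)))
  haveI : CharP (Localization.Away g) p := charP_of_nontrivial p B (Localization.Away g)
  -- étale coordinates
  obtain ⟨ι, σ, _, _, ⟨P⟩⟩ := (inferInstance : Algebra.IsStandardSmooth A (Localization.Away g))
  haveI : Algebra.IsStandardSmoothOfRelativeDimension P.dimension A (Localization.Away g) :=
    ⟨_, _, _, inferInstance, P, rfl⟩
  obtain ⟨g', hg'⟩ := Algebra.IsStandardSmoothOfRelativeDimension.exists_etale_mvPolynomial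
    P.dimension A (Localization.Away g)
  -- the relative dimension is `r`
  have hn : P.dimension = r := by
    have h1 : Module.rank (Localization.Away g) (Ω[Localization.Away g⁄A]) = P.dimension :=
      Algebra.IsStandardSmoothOfRelativeDimension.rank_kaehlerDifferential P.dimension
    have h2 : Module.rankAtStalk (R := Localization.Away g) (Ω[Localization.Away g⁄A])
        ⟨_, hprime'⟩ = P.dimension := by
      rw [Module.rankAtStalk_eq_finrank_of_free]
      exact Module.finrank_eq_of_rank_eq h1
    haveI : Algebra.FormallyEtale B (Localization.Away g) :=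
      Algebra.FormallyEtale.of_isLocalization (Rₘ := Localization.Away g) (Submonoid.powers g)
    have h3 := Module.rankAtStalk_isBaseChange
      (KaehlerDifferential.isBaseChange_of_formallyEtale A B (Localization.Away g))
      (⟨_, hprime'⟩ : PrimeSpectrum (Localization.Away g))
    rw [h2] at h3
    rw [h3, ← hr (PrimeSpectrum.comap (algebraMap B (Localization.Away g)) ⟨_, hprime'⟩)]
  subst hn
  algebraize [g'.toRingHom]
  haveI : IsScalarTower A (MvPolynomial (Fin P.dimension) A) (Localization.Away g) :=
    IsScalarTower.of_algebraMap_eq (fun a => (g'.commutes a).symm)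
  -- the prime of the twist of the localization
  let 𝔮' : PrimeSpectrum (BaseChange p A (Localization.Away g)) :=
    ⟨(𝔓.asIdeal.map (algebraMap B (Localization.Away g))).comap
      (relFrob p A (Localization.Away g)), Ideal.comap_isPrime _ _⟩
  letI iBg := algCopy p A (Localization.Away g)
  letI iS : Algebra (BaseChange p A B) (BaseChange p A (Localization.Away g)) :=
    (twistMap p A B (Localization.Away g)).toRingHom.toAlgebra
  have h𝔮' : 𝔮'.comap (algebraMap (BaseChange p A B) (BaseChange p A (Localization.Away g))) = 𝔮 := by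
    apply PrimeSpectrum.ext
    show ((𝔓.asIdeal.map (algebraMap B (Localization.Away g))).comap
      (relFrob p A (Localization.Away g))).comap
        (twistMap p A B (Localization.Away g)).toRingHom = 𝔮.asIdeal
    have hcomp : (relFrob p A (Localization.Away g)).comp
        (twistMap p A B (Localization.Away g)).toRingHom =
        (algebraMap B (Localization.Away g)).comp (relFrob p A B) :=
      RingHom.ext fun x => relFrob_twistMap p A B (Localization.Away g) x
    rw [Ideal.comap_comap, hcomp, ← Ideal.comap_comap, hcomap', h𝔓]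
  -- base change from `B` to the localization
  obtain ⟨e1⟩ := exists_baseChange_linearEquiv p A B (Localization.Away g)
    (bijective_of_etale p B (Localization.Away g))
  -- base change from the polynomial ring
  obtain ⟨e2⟩ := exists_baseChange_linearEquiv p A (MvPolynomial (Fin P.dimension) A)
    (Localization.Away g) (bijective_of_etale p (MvPolynomial (Fin P.dimension) A)
      (Localization.Away g))
  haveI : Nontrivial (BaseChange p A (Localization.Away g)) :=
    nontrivial_of_ne (0 : BaseChange p A (Localization.Away g)) 1 (fun h01 =>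
      𝔮'.isPrime.ne_top ((Ideal.eq_top_iff_one _).mpr (h01 ▸ Ideal.zero_mem _)))
  rw [← h𝔮', ← Module.rankAtStalk_baseChange, Module.rankAtStalk_eq_of_equiv e1]
  letI iS0 : Algebra (BaseChange p A (MvPolynomial (Fin P.dimension) A))
      (BaseChange p A (Localization.Away g)) :=
    (twistMap p A (MvPolynomial (Fin P.dimension) A) (Localization.Away g)).toRingHom.toAlgebra
  letI iP := algCopy p A (MvPolynomial (Fin P.dimension) A)
  let b : Module.Basis (Fin P.dimension → Fin p) (BaseChange p A (Localization.Away g))
      (BCopy (Localization.Away g)) :=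
    (Algebra.TensorProduct.basis (BaseChange p A (Localization.Away g))
      (polyBasis p A (Fin P.dimension))).map e2
  haveI : Module.Free (BaseChange p A (Localization.Away g)) (BCopy (Localization.Away g)) :=
    Module.Free.of_basis b
  rw [Module.rankAtStalk_eq_finrank_of_free]
  show Module.finrank _ _ = _
  rw [Module.finrank_eq_card_basis b, Fintype.card_fun, Fintype.card_fin, Fintype.card_fin]

end rank

end Groth.Agent.Lib.Helper16.RelFrob
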